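import Cfsg.Agent.H284.EP.Basic

/-!
# Counting in extremely primitive groups (helper250)

* `cnt r K` : number of the elements of order `r` in `K`;
* `sum_cnt` : `∑_{g ∉ H} cnt r (H ∩ H^g) + |H| cnt r H ≤ c (cnt r H) ^ 2`, if `|C_G(y)| ≤ c` for the elements `y` of order `r`;
* `sum_sub` : `∑_{g ∉ H} #{S ∈ 𝒮 : S ≤ H ∩ H^g} + |H| |𝒮| = |N_G(S)| |𝒮| ^ 2`, if `𝒮` is the set of the subgroups of `H` of
  order `m` and all these are conjugate in `G`.
-/

set_option autoImplicit false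
set_option linter.unusedSectionVars false
set_option linter.style.haveILetI false

namespace Cfsg.Agent.H250.EP

open MulAction Subgroup Cfsg.Agent.H284

variable {G : Type*} [Group G] [Finite G]

/-- the number of the elements of order `r` -/
noncomputable def cnt (r : ℕ) (K : Subgroup G) : ℕ := Nat.card {y : G // y ∈ K ∧ orderOf y = r}

/-- the number of the subgroups of `K` of order `m` -/
noncomputable def nsub (m : ℕ) (K : Subgroup G) : ℕ := Nat.card {S : Subgroup G // S ≤ K ∧ Nat.card S = m}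

theorem cnt_mono {r : ℕ} {K L : Subgroup G} (h : K ≤ L) : cnt r K ≤ cnt r L :=
  Nat.card_le_card_of_injective (fun y : {y : G // y ∈ K ∧ orderOf y = r} =>
    (⟨y.1, h y.2.1, y.2.2⟩ : {y : G // y ∈ L ∧ orderOf y = r})) fun a b e => by
      exact Subtype.ext (congrArg (fun z : {y : G // y ∈ L ∧ orderOf y = r} => z.1) e)

/-- the sum over the elements outside `H` -/
noncomputable def so (H : Subgroup G) (f : G → ℕ) : ℕ :=
  letI := Fintype.ofFinite {g : G // g ∉ H}
  ∑ g : {g : G // g ∉ H}, f g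

theorem so_mono {H : Subgroup G} {f f' : G → ℕ} (h : ∀ g ∉ H, f g ≤ f' g) : so H f ≤ so H f' := by
  unfold so
  apply Finset.sum_le_sum
  intro g _
  exact h g g.2

theorem so_add (H : Subgroup G) (f f' : G → ℕ) : so H (fun g => f g + f' g) = so H f + so H f' := by
  unfold so
  exact Finset.sum_add_distrib

theorem so_mul (H : Subgroup G) (c : ℕ) (f : G → ℕ) : so H (fun g => c * f g) = c * so H f := by
  unfold so
  rw [Finset.mul_sum]

theorem card_out (H : Subgroup G) : Nat.card {g : G // g ∉ H} + Nat.card H = Nat.card G := by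
  classical
  have := Fintype.ofFinite G
  have h1 := Fintype.card_subtype_compl (fun g : G => g ∈ H)
  have h2 : Fintype.card {g : G // g ∈ H} = Nat.card H := by rw [Nat.card_eq_fintype_card]
  have h3 : Fintype.card {g : G // g ∈ H} ≤ Fintype.card G := Fintype.card_subtype_le _
  have h4 : Nat.card {g : G // g ∉ H} = Fintype.card {g : G // ¬ g ∈ H} := Nat.card_eq_fintype_card
  rw [h4, h1, Nat.card_eq_fintype_card (α := G), ← h2]
  omega

theorem so_const (H : Subgroup G) (c : ℕ) : so H (fun _ => c) + c * Nat.card H = c * Nat.card G := by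
  letI := Fintype.ofFinite {g : G // g ∉ H}
  have h1 : so H (fun _ => c) = Nat.card {g : G // g ∉ H} * c := by
    unfold so
    rw [Finset.sum_const, smul_eq_mul, Finset.card_univ, ← Nat.card_eq_fintype_card]
  rw [h1, ← card_out H]
  ring

theorem so_add_in (H : Subgroup G) (f : G → ℕ) (c : ℕ) (hc : ∀ g ∈ H, f g = c) :
    letI := Fintype.ofFinite G
    so H f + Nat.card H * c = ∑ g : G, f g := by
  classical
  letI := Fintype.ofFinite G
  have h1 := Fintype.sum_subtype_add_sum_subtype (fun g : G => g ∈ H) f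
  have h2 : ∑ i : {x : G // x ∈ H}, f (i : G) = Nat.card H * c := by
    have h3 : ∑ i : {x : G // x ∈ H}, f (i : G) = ∑ _i : {x : G // x ∈ H}, c :=
      Finset.sum_congr rfl fun i _ => hc i.1 i.2
    rw [h3, Finset.sum_const, smul_eq_mul, Finset.card_univ, ← Nat.card_eq_fintype_card]
  have h3 : so H f = ∑ i : {x : G // ¬ x ∈ H}, f (i : G) := by
    unfold so
    apply Finset.sum_congr _ (fun _ _ => rfl)
    ext x
    simp
  rw [h3, add_comm, ← h2]
  exact h1

/-- fibres of conjugation -/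
theorem card_conj_fib (y y' : G) : Nat.card {g : G // g * y' * g⁻¹ = y} ≤ Nat.card (centralizer ({y} : Set G)) := by
  by_cases h : Nonempty {g : G // g * y' * g⁻¹ = y}
  · obtain ⟨g₀, h₀⟩ := h
    refine Nat.card_le_card_of_injective (fun g : {g : G // g * y' * g⁻¹ = y} =>
      (⟨g.1 * g₀⁻¹, ?_⟩ : centralizer ({y} : Set G))) ?_
    · rw [mem_centralizer_singleton_iff]
      have h1 : g.1 * y' * g.1⁻¹ = y := g.2
      have h2 : y' = g₀⁻¹ * y * g₀ := by
        have e : g₀⁻¹ * y * g₀ = g₀⁻¹ * (g₀ * y' * g₀⁻¹) * g₀ := by rw [h₀]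
        rw [e]
        group
      have h3 : g.1 * g₀⁻¹ * y * (g.1 * g₀⁻¹)⁻¹ = y := by
        have e : g.1 * g₀⁻¹ * y * (g.1 * g₀⁻¹)⁻¹ = g.1 * (g₀⁻¹ * y * g₀) * g.1⁻¹ := by group
        rw [e, ← h2]
        exact h1
      exact mul_inv_eq_iff_eq_mul.1 h3
    · intro a b e
      have e1 : a.1 * g₀⁻¹ = b.1 * g₀⁻¹ := Subtype.ext_iff.1 e
      exact Subtype.ext (mul_right_cancel e1)
  · have : IsEmpty {g : G // g * y' * g⁻¹ = y} := not_nonempty_iff.1 h
    rw [Nat.card_of_isEmpty]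
    exact Nat.zero_le _

theorem card_sub_fib {S S' : Subgroup G} (h : ∃ g, cj g S' = S) :
    Nat.card {g : G // cj g S' = S} = Nat.card (normalizer (S : Set G)) := by
  obtain ⟨g₀, h₀⟩ := h
  have hn : ∀ g : G, cj g S = S ↔ g ∈ normalizer (S : Set G) := by
    intro g
    rw [mem_normalizer_iff]
    constructor
    · intro e x
      constructor
      · intro hx
        have := conj_mem_cj (x := g) hx
        rwa [e] at this
      · intro hx
        rw [← e, mem_cj] at hx
        have e' : g⁻¹ * (g * x * g⁻¹) * g = x := by group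
        rwa [e'] at hx
    · intro hg
      ext x
      rw [mem_cj, hg]
      have e' : g * (g⁻¹ * x * g) * g⁻¹ = x := by group
      rw [e']
  refine Nat.card_congr
    { toFun := fun g => ⟨g.1 * g₀⁻¹, (hn _).1 ?_⟩
      invFun := fun g => ⟨g.1 * g₀, ?_⟩
      left_inv := fun g => Subtype.ext (by simp)
      right_inv := fun g => Subtype.ext (by simp) }
  · have h1 : cj g₀⁻¹ S = S' := by
      have e : cj g₀⁻¹ (cj g₀ S') = cj g₀⁻¹ S := congrArg _ h₀
      rw [← e, cj_inv_cj]
    rw [cj_mul, h1]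
    exact g.2
  · rw [cj_mul, h₀]
    exact (hn _).2 g.2

/-- **the sum of the numbers of the elements of order `r`** -/
theorem sum_cnt (H : Subgroup G) (r c : ℕ) (hc : ∀ y : G, orderOf y = r → Nat.card (centralizer ({y} : Set G)) ≤ c) :
    so H (fun g => cnt r (H ⊓ cj g H)) + Nat.card H * cnt r H ≤ c * cnt r H ^ 2 := by
  classical
  have hft := Fintype.ofFinite G
  have h1 := so_add_in H (fun g => cnt r (H ⊓ cj g H)) (cnt r H) (by
    intro g hg
    show cnt r (H ⊓ cj g H) = cnt r H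
    rw [cj_eq_self hg, inf_idem])
  rw [h1]
  have h2 : (letI := Fintype.ofFinite G; ∑ g : G, cnt r (H ⊓ cj g H)) =
      Nat.card (Σ g : G, {y : G // y ∈ H ⊓ cj g H ∧ orderOf y = r}) := by
    letI := Fintype.ofFinite G
    rw [Nat.card_sigma]
    rfl
  rw [h2]
  let A := {y : G // y ∈ H ∧ orderOf y = r}
  have hA := Fintype.ofFinite A
  have h3 : Nat.card (Σ g : G, {y : G // y ∈ H ⊓ cj g H ∧ orderOf y = r}) ≤
      Nat.card (Σ p : A × A, {g : G // g * p.2.1 * g⁻¹ = p.1.1}) := by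
    refine Nat.card_le_card_of_injective (fun q => ⟨(⟨q.2.1, (mem_inf.1 q.2.2.1).1, q.2.2.2⟩,
      ⟨q.1⁻¹ * q.2.1 * q.1, mem_cj.1 (mem_inf.1 q.2.2.1).2, ?_⟩), ⟨q.1, ?_⟩⟩) ?_
    · have := (MulAut.conj q.1⁻¹).orderOf_eq q.2.1
      rw [MulAut.conj_apply, inv_inv] at this
      exact this.trans q.2.2.2
    · show q.1 * (q.1⁻¹ * q.2.1 * q.1) * q.1⁻¹ = q.2.1
      group
    · rintro ⟨g, y, hy⟩ ⟨g', y', hy'⟩ e
      have e1 : (⟨y, (mem_inf.1 hy.1).1, hy.2⟩ : A) = ⟨y', (mem_inf.1 hy'.1).1, hy'.2⟩ :=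
        congrArg (fun s : (Σ p : A × A, {g : G // g * p.2.1 * g⁻¹ = p.1.1}) => s.1.1) e
      have e2 : g = g' := congrArg (fun s : (Σ p : A × A, {g : G // g * p.2.1 * g⁻¹ = p.1.1}) => s.2.1) e
      have e3 : y = y' := Subtype.ext_iff.1 e1
      subst e2
      subst e3
      rfl
  refine h3.trans ?_
  rw [Nat.card_sigma]
  calc ∑ p : A × A, Nat.card {g : G // g * p.2.1 * g⁻¹ = p.1.1} ≤ ∑ _p : A × A, c :=
        Finset.sum_le_sum fun p _ => (card_conj_fib _ _).trans (hc _ p.1.2.2)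
    _ = c * cnt r H ^ 2 := by
        rw [Finset.sum_const, smul_eq_mul, Finset.card_univ, Fintype.card_prod]
        have : cnt r H = Fintype.card A := Nat.card_eq_fintype_card
        rw [this]
        ring

/-- **the sum of the numbers of the subgroups of order `m`** -/
theorem sum_sub (H : Subgroup G) (m c : ℕ) (hcj : ∀ S S' : Subgroup G, S ≤ H → S' ≤ H → Nat.card S = m → Nat.card S' = m →
      ∃ g, cj g S' = S)
    (hc : ∀ S : Subgroup G, S ≤ H → Nat.card S = m → Nat.card (normalizer (S : Set G)) = c) :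
    so H (fun g => nsub m (H ⊓ cj g H)) + Nat.card H * nsub m H = c * nsub m H ^ 2 := by
  classical
  have hft := Fintype.ofFinite G
  have h1 := so_add_in H (fun g => nsub m (H ⊓ cj g H)) (nsub m H) (by
    intro g hg
    show nsub m (H ⊓ cj g H) = nsub m H
    rw [cj_eq_self hg, inf_idem])
  rw [h1]
  have h2 : (letI := Fintype.ofFinite G; ∑ g : G, nsub m (H ⊓ cj g H)) =
      Nat.card (Σ g : G, {S : Subgroup G // S ≤ H ⊓ cj g H ∧ Nat.card S = m}) := by
    letI := Fintype.ofFinite G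
    rw [Nat.card_sigma]
    rfl
  rw [h2]
  let A := {S : Subgroup G // S ≤ H ∧ Nat.card S = m}
  have hA := Fintype.ofFinite A
  have h3 : Nat.card (Σ g : G, {S : Subgroup G // S ≤ H ⊓ cj g H ∧ Nat.card S = m}) =
      Nat.card (Σ p : A × A, {g : G // cj g p.2.1 = p.1.1}) := by
    apply le_antisymm
    · refine Nat.card_le_card_of_injective (fun q => ⟨(⟨q.2.1, (le_inf_iff.1 q.2.2.1).1, q.2.2.2⟩,
        ⟨cj q.1⁻¹ q.2.1, ?_, ?_⟩), ⟨q.1, cj_cj_inv _ _⟩⟩) ?_
      · rw [cj_le_iff, inv_inv]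
        exact (le_inf_iff.1 q.2.2.1).2
      · rw [card_cj]
        exact q.2.2.2
      · rintro ⟨g, y, hy⟩ ⟨g', y', hy'⟩ e
        have e1 : (⟨y, (le_inf_iff.1 hy.1).1, hy.2⟩ : A) = ⟨y', (le_inf_iff.1 hy'.1).1, hy'.2⟩ :=
          congrArg (fun s : (Σ p : A × A, {g : G // cj g p.2.1 = p.1.1}) => s.1.1) e
        have e2 : g = g' := congrArg (fun s : (Σ p : A × A, {g : G // cj g p.2.1 = p.1.1}) => s.2.1) e
        have e3 : y = y' := Subtype.ext_iff.1 e1
        subst e2
        subst e3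
        rfl
    · refine Nat.card_le_card_of_injective (fun q => ⟨q.2.1, ⟨q.1.1.1, ?_, q.1.1.2.2⟩⟩) ?_
      · refine le_inf q.1.1.2.1 ?_
        have e : cj q.2.1 q.1.2.1 = q.1.1.1 := q.2.2
        exact e.symm.le.trans (cj_mono q.1.2.2.1)
      · rintro ⟨⟨⟨S, hS⟩, ⟨S', hS'⟩⟩, ⟨g, hg⟩⟩ ⟨⟨⟨L, hL⟩, ⟨L', hL'⟩⟩, ⟨g', hg'⟩⟩ e
        have e1 : g = g' := congrArg (fun s : (Σ g : G, {S : Subgroup G // S ≤ H ⊓ cj g H ∧ Nat.card S = m}) => s.1) e
        have e2 : S = L := congrArg (fun s : (Σ g : G, {S : Subgroup G // S ≤ H ⊓ cj g H ∧ Nat.card S = m}) => s.2.1) e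
        subst e1
        subst e2
        have e3 : S' = L' := by
          have a1 : cj g S' = S := hg
          have a2 : cj g L' = S := hg'
          rw [← cj_inv_cj g S', a1, ← a2, cj_inv_cj]
        subst e3
        rfl
  rw [h3, Nat.card_sigma]
  rw [Finset.sum_congr rfl (g := fun _ => c)]
  · rw [Finset.sum_const, smul_eq_mul, Finset.card_univ, Fintype.card_prod]
    have : nsub m H = Fintype.card A := Nat.card_eq_fintype_card
    rw [this]
    ring
  · intro p _
    rw [card_sub_fib (hcj _ _ p.1.2.1 p.2.2.1 p.1.2.2 p.2.2.2)]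
    exact hc _ p.1.2.1 p.1.2.2

end Cfsg.Agent.H250.EP
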