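import Mathlib
import Cfsg.Agent.H20.FrobTools

/-!
# Centralizers of the elements of order three of the Tits group (copy of helper20's FrobTits without `V`, helper250)

The data: the order, elements `x` of order 13, `t` of order 3 normalising `⟨x⟩`, a subgroup `R` of order 27 whose nonidentity
elements are conjugate to `t`, `|C(y)| = 50` for `y` of order 5, elements of orders 3 and 5 do not commute, a subgroup of
order 25 and exponent 5, an elementary abelian subgroup of order 32.
-/

set_option autoImplicit false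
set_option linter.unusedSectionVars false

universe u

namespace Cfsg.Agent.H250.EP.FrobT

open Subgroup Cfsg.Agent.H20.FrobReduce Cfsg.Agent.H20.FrobTools

/-- the data -/
structure TData (G : Type u) [Group G] where
  card : Nat.card G = 2 ^ 11 * 3 ^ 3 * 5 ^ 2 * 13
  x : G
  t : G
  x13 : orderOf x = 13
  t3 : orderOf t = 3
  txt : t * x * t⁻¹ = x ^ 3
  R : Subgroup G
  cardR : Nat.card R = 27
  conjR : ∀ r ∈ R, r ≠ 1 → IsConj r t
  cent5 : ∀ y : G, orderOf y = 5 → Nat.card (centralizer ({y} : Set G)) = 50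
  ncomm : ∀ a b : G, orderOf a = 3 → orderOf b = 5 → a * b ≠ b * a
  P : Subgroup G
  cardP : Nat.card P = 25
  expP : ∀ a ∈ P, a ^ 5 = 1

variable {G : Type u} [Group G] [Finite G] (D : TData G)

/-- a `p`-element is conjugate into a subgroup of full `p`-power order -/
theorem exists_conj_mem {p a : ℕ} (hp : p.Prime) {R : Subgroup G} (hR : Nat.card R = p ^ a) (hi : ¬ p ∣ R.index)
    {y : G} {b : ℕ} (hy : y ^ p ^ b = 1) : ∃ g : G, g * y * g⁻¹ ∈ R := by
  have : Fact p.Prime := ⟨hp⟩
  have hy' : IsPGroup p (zpowers y) := by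
    rintro ⟨z, hz⟩
    obtain ⟨k, rfl⟩ := mem_zpowers_iff.1 hz
    refine ⟨b, Subtype.ext ?_⟩
    show (y ^ k) ^ p ^ b = 1
    rw [← zpow_natCast, ← zpow_mul, mul_comm, zpow_mul, zpow_natCast, hy, one_zpow]
  obtain ⟨Q, hQ⟩ := hy'.exists_le_sylow
  obtain ⟨g, hg⟩ := MulAction.exists_smul_eq G Q ((IsPGroup.of_card hR).toSylow hi)
  refine ⟨g, ?_⟩
  have h1 : g * y * g⁻¹ ∈ ((g • Q : Sylow p G) : Subgroup G) := by
    rw [Sylow.coe_subgroup_smul]
    exact Subgroup.smul_mem_pointwise_smul _ _ _ (hQ (mem_zpowers y))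
  rw [hg] at h1
  exact h1

namespace TData

include D

theorem index_R : D.R.index = 2 ^ 11 * 5 ^ 2 * 13 := by
  have h := D.R.card_mul_index
  rw [D.cardR, D.card] at h
  omega

theorem index_P : D.P.index = 2 ^ 11 * 3 ^ 3 * 13 := by
  have h := D.P.card_mul_index
  rw [D.cardP, D.card] at h
  omega

/-- the 3-elements are conjugate to `t` -/
theorem isConj_t {y : G} {b : ℕ} (hy : y ^ 3 ^ b = 1) (hy1 : y ≠ 1) : IsConj y D.t := by
  obtain ⟨g, hg⟩ := exists_conj_mem (a := 3) Nat.prime_three (R := D.R) (by rw [D.cardR]; norm_num)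
    (by rw [D.index_R]; norm_num) hy
  have h1 := D.conjR _ hg (fun h => hy1 (conj_eq_one_iff.1 h))
  exact (isConj_iff.2 ⟨g, rfl⟩).trans h1

omit [Finite G] D in
theorem orderOf_eq_of_isConj {a b : G} (h : IsConj a b) : orderOf a = orderOf b := by
  obtain ⟨c, hc⟩ := isConj_iff.1 h
  rw [← hc]
  exact ((MulAut.conj c).orderOf_eq a).symm

theorem no_nine (y : G) : orderOf y ≠ 3 ^ (1 + 1) := by
  intro hy
  have hy1 : y ≠ 1 := by
    rintro rfl
    rw [orderOf_one] at hy
    norm_num at hy
  have h := D.isConj_t (b := 2) (by rw [← hy, pow_orderOf_eq_one]) hy1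
  have h1 := orderOf_eq_of_isConj h
  rw [hy, D.t3] at h1
  norm_num at h1

theorem no_25 (y : G) : orderOf y ≠ 5 ^ (1 + 1) := by
  intro hy
  obtain ⟨g, hg⟩ := exists_conj_mem (a := 2) (p := 5) (by norm_num) (R := D.P) (by rw [D.cardP]; norm_num)
    (by rw [D.index_P]; norm_num) (b := 2) (y := y) (by rw [← hy, pow_orderOf_eq_one])
  have h1 := D.expP _ hg
  rw [conj_pow, conj_eq_one_iff] at h1
  have h2 := orderOf_dvd_of_pow_eq_one h1
  rw [hy] at h2
  norm_num at h2

/-! ### the centralizer of `t` -/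

omit D in
theorem card_class (y : G) : Nat.card {z : G // IsConj y z} = (centralizer ({y} : Set G)).index := by
  have h1 := (MulAction.stabilizer (ConjAct G) y).card_mul_index
  have h2 := MulAction.index_stabilizer (ConjAct G) y
  have h3 := Subgroup.nat_card_centralizer_nat_card_stabilizer y
  have h4 := (centralizer ({y} : Set G)).card_mul_index
  have h5 : (MulAction.orbit (ConjAct G) y).ncard = Nat.card {z : G // IsConj y z} := by
    rw [← Nat.card_coe_set_eq]
    refine Nat.card_congr (Equiv.subtypeEquivRight fun z => ?_)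
    show z ∈ MulAction.orbit (ConjAct G) y ↔ _
    rw [ConjAct.mem_orbit_conjAct, isConj_comm]
  rw [← h3, h2, h5] at h1
  have h6 : Nat.card (ConjAct G) = Nat.card G := rfl
  rw [h6, ← h4] at h1
  exact Nat.eq_of_mul_eq_mul_left Nat.card_pos h1

theorem dvd_class : 27 ∣ (centralizer ({D.t} : Set G)).index + 1 := by
  have h1 := dvd_cnt (G := G) (n := 27) (by rw [D.card]; norm_num)
  have h2 : cnt G 27 = (centralizer ({D.t} : Set G)).index + 1 := by
    rw [← card_class, ← Finite.card_option]
    unfold cnt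
    symm
    have ht1 : D.t ^ 27 = 1 := by
      rw [← orderOf_dvd_iff_pow_eq_one, D.t3]
      norm_num
    refine Nat.card_eq_of_bijective (fun o : Option {z : G // IsConj D.t z} => match o with
      | none => (⟨1, one_pow 27⟩ : {x : G // x ^ 27 = 1})
      | some z => ⟨z, by
          obtain ⟨c, hc⟩ := isConj_iff.1 z.2
          rw [← hc, conj_pow, ht1, mul_one, mul_inv_cancel]⟩) ⟨?_, ?_⟩
    · have hne : ∀ z : {z : G // IsConj D.t z}, (z : G) ≠ 1 := by
        rintro ⟨z, hz⟩ rfl
        rw [isConj_comm, isConj_one_right] at hz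
        have := D.t3
        rw [hz, orderOf_one] at this
        omega
      rintro (_ | y) (_ | z) he
      · rfl
      · exact absurd (congrArg Subtype.val he).symm (hne z)
      · exact absurd (congrArg Subtype.val he) (hne y)
      · have : (y : G) = z := congrArg (fun w : {x : G // x ^ 27 = 1} => (w : G)) he
        rw [Subtype.ext this]
    · rintro ⟨z, hz⟩
      by_cases hz1 : z = 1
      · subst hz1
        exact ⟨none, rfl⟩
      · refine ⟨some ⟨z, ?_⟩, rfl⟩
        exact (D.isConj_t (b := 3) (by rw [← hz]; norm_num) hz1).symm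
  rwa [h2] at h1

theorem cent_dvd : 27 ∣ Nat.card (centralizer ({D.t} : Set G)) := by
  have h2 : Fact (Nat.Prime 3) := ⟨Nat.prime_three⟩
  have hP : IsPGroup 3 D.R := IsPGroup.of_card (n := 3) (by rw [D.cardR]; norm_num)
  have hn : Nontrivial D.R := by
    rw [← Finite.one_lt_card_iff_nontrivial, D.cardR]
    norm_num
  have h3 := hP.center_nontrivial
  obtain ⟨z, hz⟩ := exists_ne (1 : center D.R)
  have hz1 : ((z : D.R) : G) ≠ 1 := by
    intro h
    apply hz
    exact Subtype.ext (Subtype.ext h)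
  have hle : D.R ≤ centralizer ({((z : D.R) : G)} : Set G) := by
    intro r hr
    rw [mem_cent]
    have := mem_center_iff.1 z.2 ⟨r, hr⟩
    exact congrArg Subtype.val this
  obtain ⟨c, hc⟩ := isConj_iff.1 (D.conjR _ (z : D.R).2 hz1)
  have h4 : Nat.card (centralizer ({((z : D.R) : G)} : Set G)) = Nat.card (centralizer ({D.t} : Set G)) := by
    rw [card_centralizer_congr (MulAut.conj c)]
    have : (MulAut.conj c) ((z : D.R) : G) = D.t := hc
    rw [this]
  rw [← h4, ← D.cardR]
  exact card_dvd_of_le hle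

theorem not_five_dvd : ¬ 5 ∣ Nat.card (centralizer ({D.t} : Set G)) := by
  intro h
  have : Fact (Nat.Prime 5) := ⟨by norm_num⟩
  obtain ⟨y, hy⟩ := exists_prime_orderOf_dvd_card' (G := centralizer ({D.t} : Set G)) 5 h
  have hy' : orderOf (y : G) = 5 := by rw [orderOf_coe, hy]
  exact D.ncomm _ _ D.t3 hy' (mem_cent.1 y.2).symm

theorem card_cent_t : Nat.card (centralizer ({D.t} : Set G)) = 108 := by
  obtain ⟨c, hc⟩ := D.cent_dvd
  have h5 := D.not_five_dvd
  have h1 := (centralizer ({D.t} : Set G)).card_mul_index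
  have h2 := D.dvd_class
  rw [hc, D.card] at h1
  rw [hc] at h5 ⊢
  set i := (centralizer ({D.t} : Set G)).index with hi
  have h5' : ¬ 5 ∣ c := fun h => h5 (h.mul_left 27)
  have h3 : c * i = 25 * (2 ^ 11 * 13) := by
    have : 27 * (c * i) = 27 * (25 * (2 ^ 11 * 13)) := by
      rw [← mul_assoc, h1]
      norm_num
    omega
  have hcop : Nat.Coprime c 25 := by
    have : Nat.Coprime c (5 ^ 2) := Nat.Coprime.pow_right _ (Nat.coprime_comm.1
      ((Nat.Prime.coprime_iff_not_dvd (by norm_num)).2 h5'))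
    simpa using this
  have h4 : c ∣ 2 ^ 11 * 13 := hcop.dvd_of_dvd_mul_left ⟨i, h3.symm⟩
  obtain ⟨a, b, ha, hb, rfl⟩ := (Nat.dvd_mul).1 h4
  obtain ⟨a', ha', rfl⟩ := (Nat.dvd_prime_pow Nat.prime_two).1 ha
  rcases (Nat.dvd_prime (by norm_num)).1 hb with rfl | rfl
  · interval_cases a' <;> omega
  · interval_cases a' <;> omega


end TData

end Cfsg.Agent.H250.EP.FrobT
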