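import Cfsg.Agent.H250.EP.Cnt

/-!
# Sylow counting (helper250)
-/

set_option autoImplicit false
set_option linter.unusedSectionVars false
set_option linter.style.haveILetI false

namespace Cfsg.Agent.H250.EP

open MulAction Subgroup Cfsg.Agent.H284

variable {G : Type*} [Group G] [Finite G]

theorem cj_eq_iff {g : G} {S : Subgroup G} : cj g S = S ↔ g ∈ normalizer (S : Set G) := by
  rw [mem_normalizer_iff]
  constructor
  · intro e x
    constructor
    · intro hx
      have := conj_mem_cj (x := g) hx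
      rwa [e] at this
    · intro hx
      rw [← e, mem_cj] at hx
      have e' : g⁻¹ * (g * x * g⁻¹) * g = x := by group
      rwa [e'] at hx
  · intro hg
    ext x
    rw [mem_cj, hg]
    have e' : g * (g⁻¹ * x * g) * g⁻¹ = x := by group
    rw [e']

/-- the number of the elements of prime order -/
theorem cnt_eq {p : ℕ} (hp : p.Prime) (K : Subgroup G) : cnt p K = (p - 1) * nsub p K := by
  classical
  have hf := Fact.mk hp
  let A := {S : Subgroup G // S ≤ K ∧ Nat.card S = p}
  letI := Fintype.ofFinite A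
  have h1 : cnt p K = Nat.card (Σ S : A, {y : S.1 // y ≠ 1}) := by
    apply le_antisymm
    · refine Nat.card_le_card_of_injective (fun y : {y : G // y ∈ K ∧ orderOf y = p} =>
        (⟨⟨zpowers y.1, zpowers_le.2 y.2.1, by rw [Nat.card_zpowers]; exact y.2.2⟩, ⟨⟨y.1, mem_zpowers _⟩, fun e => ?_⟩⟩ :
          (Σ S : A, {y : S.1 // y ≠ 1}))) ?_
      · have e1 : y.1 = 1 := Subtype.ext_iff.1 e
        have := y.2.2
        rw [e1, orderOf_one] at this
        exact hp.one_lt.ne this
      · rintro ⟨a, ha⟩ ⟨b, hb⟩ e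
        have : a = b := congrArg (fun s : (Σ S : A, {y : S.1 // y ≠ 1}) => (s.2.1 : G)) e
        subst this
        rfl
    · refine Nat.card_le_card_of_injective (fun s : (Σ S : A, {y : S.1 // y ≠ 1}) =>
        (⟨s.2.1, s.1.2.1 s.2.1.2, ?_⟩ : {y : G // y ∈ K ∧ orderOf y = p})) ?_
      · rw [Subgroup.orderOf_coe]
        have h2 : orderOf s.2.1 ∣ p := (orderOf_dvd_natCard s.2.1).trans s.1.2.2.dvd
        rcases (Nat.dvd_prime hp).1 h2 with h3 | h3
        · exact absurd (orderOf_eq_one_iff.1 h3) s.2.2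
        · exact h3
      · rintro ⟨⟨S, hS⟩, ⟨⟨y, hy⟩, hy1⟩⟩ ⟨⟨L, hL⟩, ⟨⟨z, hz⟩, hz1⟩⟩ e
        have e1 : y = z := congrArg (fun s : {y : G // y ∈ K ∧ orderOf y = p} => s.1) e
        subst e1
        have h2 : ∀ M : Subgroup G, Nat.card M = p → y ∈ M → zpowers y = M := by
          intro M hM hyM
          apply Subgroup.eq_of_le_of_card_ge (zpowers_le.2 hyM)
          rw [hM, Nat.card_zpowers]
          have h3 : orderOf (⟨y, hyM⟩ : M) ∣ p := by
            rw [← hM]
            exact orderOf_dvd_natCard _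
          rw [Subgroup.orderOf_mk] at h3
          rcases (Nat.dvd_prime hp).1 h3 with h4 | h4
          · exfalso
            apply hy1
            exact Subtype.ext (orderOf_eq_one_iff.1 h4)
          · rw [h4]
        have h3 : S = L := (h2 S hS.2 hy).symm.trans (h2 L hL.2 hz)
        subst h3
        rfl
  rw [h1, Nat.card_sigma]
  rw [Finset.sum_congr rfl (g := fun _ => p - 1)]
  · rw [Finset.sum_const, smul_eq_mul, Finset.card_univ, mul_comm]
    have : nsub p K = Fintype.card A := Nat.card_eq_fintype_card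
    rw [this]
  · intro S _
    letI := Fintype.ofFinite S.1
    rw [Nat.card_eq_fintype_card, Fintype.card_subtype_compl, Fintype.card_subtype_eq, ← Nat.card_eq_fintype_card,
      S.2.2]

section syl

variable {p k r : ℕ} (hp : p.Prime) {K : Subgroup G} (hK : Nat.card K = p ^ k * r) (hr : ¬ p ∣ r)

include hp hK hr

theorem index_of_card {Q : Subgroup K} (hQ : Nat.card Q = p ^ k) : ¬ p ∣ Q.index := by
  have h1 := Q.card_mul_index
  rw [hQ, hK] at h1
  have h2 := Nat.eq_of_mul_eq_mul_left (pow_pos hp.pos k) h1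
  rwa [h2]

/-- the Sylow subgroups and the subgroups of full order -/
theorem exists_sylow (S : Subgroup G) (hS : S ≤ K) (hc : Nat.card S = p ^ k) :
    ∃ P : Sylow p K, (P : Subgroup K) = S.subgroupOf K := by
  have hf := Fact.mk hp
  have h1 : Nat.card (S.subgroupOf K) = p ^ k := by
    rw [Nat.card_congr (Subgroup.subgroupOfEquivOfLe hS).toEquiv, hc]
  exact ⟨(IsPGroup.of_card h1).toSylow (index_of_card hp hK hr h1), rfl⟩

theorem card_sylow (P : Sylow p K) : Nat.card P = p ^ k := by
  have hf := Fact.mk hp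
  have h1 := P.card_eq_multiplicity
  rw [hK] at h1
  have hr0 : r ≠ 0 := by
    rintro rfl
    exact hr (dvd_zero _)
  rw [Nat.factorization_mul (pow_ne_zero _ hp.ne_zero) hr0, Nat.factorization_pow] at h1
  simpa [hp.factorization_self, Nat.factorization_eq_zero_of_not_dvd hr] using h1

theorem map_sylow (P : Sylow p K) : (P : Subgroup K).map K.subtype ≤ K ∧
    Nat.card ((P : Subgroup K).map K.subtype) = p ^ k := by
  constructor
  · rintro _ ⟨y, _, rfl⟩
    exact y.2
  · rw [← card_sylow hp hK hr P]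
    exact (Nat.card_congr ((P : Subgroup K).equivMapOfInjective _ K.subtype_injective).toEquiv).symm

theorem nsub_eq : nsub (p ^ k) K = Nat.card (Sylow p K) := by
  have hf := Fact.mk hp
  refine Nat.card_congr
    { toFun := fun S => Classical.choose (exists_sylow hp hK hr S.1 S.2.1 S.2.2)
      invFun := fun P => ⟨(P : Subgroup K).map K.subtype, map_sylow hp hK hr P⟩
      left_inv := fun S => Subtype.ext ?_
      right_inv := fun P => ?_ }
  · show ((Classical.choose (exists_sylow hp hK hr S.1 S.2.1 S.2.2) : Sylow p K) : Subgroup K).map K.subtype = S.1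
    rw [Classical.choose_spec (exists_sylow hp hK hr S.1 S.2.1 S.2.2)]
    exact Subgroup.map_subgroupOf_eq_of_le S.2.1
  · apply Sylow.ext
    have h1 := map_sylow hp hK hr P
    refine (Classical.choose_spec (exists_sylow hp hK hr ((P : Subgroup K).map K.subtype) h1.1 h1.2)).trans ?_
    exact Subgroup.comap_map_eq_self_of_injective K.subtype_injective _

theorem nsub_mod : nsub (p ^ k) K ≡ 1 [MOD p] := by
  have hf := Fact.mk hp
  rw [nsub_eq hp hK hr]
  exact card_sylow_modEq_one p K

/-- conjugacy -/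
theorem conj_sub {S S' : Subgroup G} (hS : S ≤ K) (hS' : S' ≤ K) (hc : Nat.card S = p ^ k)
    (hc' : IsPGroup p S') : ∃ g ∈ K, cj g S' ≤ S := by
  have hf := Fact.mk hp
  obtain ⟨P, hP⟩ := exists_sylow hp hK hr S hS hc
  have h1 : IsPGroup p (S'.subgroupOf K) := hc'.of_equiv (Subgroup.subgroupOfEquivOfLe hS').symm
  obtain ⟨Q, hQ⟩ := h1.exists_le_sylow
  obtain ⟨g, hg⟩ := MulAction.exists_smul_eq K Q P
  refine ⟨g, g.2, ?_⟩
  rintro _ ⟨x, hx, rfl⟩
  have h2 : (⟨x, hS' hx⟩ : K) ∈ (Q : Subgroup K) := hQ hx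
  have h3 : g * ⟨x, hS' hx⟩ * g⁻¹ ∈ ((g • Q : Sylow p K) : Subgroup K) := by
    rw [Sylow.coe_subgroup_smul]
    exact Subgroup.smul_mem_pointwise_smul _ _ _ h2
  rw [hg, hP] at h3
  exact h3

theorem conj_sub' {S S' : Subgroup G} (hS : S ≤ K) (hS' : S' ≤ K) (hc : Nat.card S = p ^ k)
    (hc' : Nat.card S' = p ^ k) : ∃ g ∈ K, cj g S' = S := by
  have hf := Fact.mk hp
  obtain ⟨g, hg, h1⟩ := conj_sub hp hK hr hS hS' hc (IsPGroup.of_card hc')
  refine ⟨g, hg, Subgroup.eq_of_le_of_card_ge h1 ?_⟩
  rw [card_cj, hc, hc']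

theorem nsub_mul {S : Subgroup G} (hS : S ≤ K) (hc : Nat.card S = p ^ k) :
    nsub (p ^ k) K * Nat.card (K ⊓ normalizer (S : Set G) : Subgroup G) = Nat.card K := by
  have hf := Fact.mk hp
  obtain ⟨P, hP⟩ := exists_sylow hp hK hr S hS hc
  rw [nsub_eq hp hK hr, Sylow.card_eq_index_normalizer P, mul_comm, ← (normalizer ((P : Subgroup K) : Set K)).card_mul_index]
  congr 1
  have h1 : normalizer ((P : Subgroup K) : Set K) = (K ⊓ normalizer (S : Set G)).subgroupOf K := by
    ext x
    rw [mem_subgroupOf, mem_inf, mem_normalizer_iff, mem_normalizer_iff, hP]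
    constructor
    · intro h
      refine ⟨x.2, fun y => ?_⟩
      constructor
      · intro hy
        exact (h ⟨y, hS hy⟩).1 hy
      · intro hy
        have h2 : (x : G)⁻¹ * (x * y * (x : G)⁻¹) * x = y := by group
        have h3 : y ∈ K := by
          rw [← h2]
          exact K.mul_mem (K.mul_mem (K.inv_mem x.2) (hS hy)) x.2
        exact (h ⟨y, h3⟩).2 hy
    · rintro ⟨_, h⟩ y
      exact h y
  rw [h1]
  exact (Nat.card_congr (Subgroup.subgroupOfEquivOfLe inf_le_left).toEquiv).symm

theorem nsub_dvd {S : Subgroup G} (hS : S ≤ K) (hc : Nat.card S = p ^ k) : nsub (p ^ k) K ∣ r := by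
  have h1 := nsub_mul hp hK hr hS hc
  have h2 : p ^ k ∣ Nat.card (K ⊓ normalizer (S : Set G) : Subgroup G) := by
    rw [← hc]
    exact Subgroup.card_dvd_of_le (le_inf hS Subgroup.le_normalizer)
  obtain ⟨c, hc'⟩ := h2
  rw [hc', hK] at h1
  refine ⟨c, ?_⟩
  apply Nat.eq_of_mul_eq_mul_left (pow_pos hp.pos k)
  rw [← h1]
  ring

omit hK hr in
theorem exists_sub (hd : p ^ k ∣ Nat.card K) : ∃ S ≤ K, Nat.card S = p ^ k := by
  have hf := Fact.mk hp
  obtain ⟨Q, hQ⟩ := Sylow.exists_subgroup_card_pow_prime p hd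
  refine ⟨Q.map K.subtype, ?_, ?_⟩
  · rintro _ ⟨y, _, rfl⟩
    exact y.2
  · rw [← hQ]
    exact (Nat.card_congr (Q.equivMapOfInjective _ K.subtype_injective).toEquiv).symm

end syl

/-- a group acting freely outside one point -/
theorem card_modEq_one {A X : Type*} [Group A] [MulAction A X] [Finite A] [Finite X] (x₀ : X) (h₀ : ∀ a : A, a • x₀ = x₀)
    (hfree : ∀ (a : A) (x : X), x ≠ x₀ → a • x = x → a = 1) : Nat.card X ≡ 1 [MOD Nat.card A] := by
  classical
  let Z : SubMulAction A X :=
    { carrier := {p | p ≠ x₀}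
      smul_mem' := by
        intro k p hp e
        apply hp
        have h1 : k⁻¹ • (k • p) = k⁻¹ • x₀ := by rw [e]
        rw [inv_smul_smul, h₀] at h1
        exact h1 }
  have hZfree : ∀ (k : A) (z : Z), k • z = z → k = 1 := by
    rintro k ⟨p, hp⟩ e
    exact hfree k p hp (Subtype.ext_iff.1 e)
  have h1 : Nat.card A ∣ Nat.card Z := by
    have e1 : Nat.card Z = Nat.card (Quotient (orbitRel A Z)) * Nat.card A := by
      rw [← Nat.card_prod]
      apply Nat.card_congr
      refine (selfEquivSigmaOrbits A Z).trans ?_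
      refine (Equiv.sigmaCongrRight fun ω => ?_).trans (Equiv.sigmaEquivProd _ _)
      refine (orbitEquivQuotientStabilizer A ω.out).trans ?_
      have hb : stabilizer A ω.out = ⊥ := by
        rw [Subgroup.eq_bot_iff_forall]
        intro k hk
        exact hZfree k _ hk
      rw [hb]
      exact QuotientGroup.quotientBot.toEquiv
    rw [e1]
    exact dvd_mul_left _ _
  have h2 : Nat.card X = Nat.card Z + 1 := by
    have e2 : Nat.card Z = Nat.card {p : X // p ≠ x₀} := rfl
    rw [e2]
    have := Fintype.ofFinite X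
    rw [Nat.card_eq_fintype_card, Nat.card_eq_fintype_card, Fintype.card_subtype_compl, Fintype.card_subtype_eq]
    have : 0 < Fintype.card X := Fintype.card_pos_iff.2 ⟨x₀⟩
    omega
  rw [h2]
  have h3 : Nat.card Z ≡ 0 [MOD Nat.card A] := (Nat.modEq_zero_iff_dvd).2 h1
  exact h3.add_right 1

end Cfsg.Agent.H250.EP
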