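import Cfsg.Agent.H250.EP.TMain
import Cfsg.Agent.H602.EPX.TitsRow

/-!
# S5745: the Tits group, final form (helper250)

`noEP_tits (B : Base) : NoEP TitsGroup`, with helper602's row `L₃(3)`.
-/

set_option autoImplicit false

namespace Cfsg.Agent.H250.EP

open Cfsg.Agent.H209.EPX

/-- **The Tits group is not extremely primitive** -/
theorem noEP_tits (B : Cfsg.Agent.H940.Eng.Base) : H542.EPX.NoEP Cfsg.Lie.TitsGroup := by
  refine noEP_of B ?_
  intro H N T _ e h hN
  have hfin := H438.Fpr.Tits.fin iso_self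
  let e' : N ≃* T := e.trans (MulEquiv.funUnique (Fin 1) T)
  have hT : Nat.card T = 5616 := by rw [← hN]; exact (Nat.card_congr e'.toEquiv).symm
  have hft : Finite T := Nat.finite_of_card_ne_zero (by rw [hT]; norm_num)
  have hna : ¬ ∀ a b : T, a * b = b * a := by
    intro hab
    obtain ⟨a, b, h1⟩ := h.nab
    exact h1 (hab a b)
  obtain ⟨F, _, _, hF, hi⟩ := real_of B name_5616 h.simple hna (by rw [hT]; norm_num) hT
  exact H602.EPX.l33 F hF H N T e h hi

end Cfsg.Agent.H250.EP
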