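import Cfsg.Agent.H250.EP.TAff
import Cfsg.Agent.H250.EP.T7800
import Cfsg.Agent.H250.EP.FrobT
import Cfsg.Agent.H542.EPX.Cells
import Cfsg.Agent.H147.Gen.Tits
import Cfsg.Agent.H20.FrobTitsInst
import Cfsg.Agent.H933.TitsBN
import Cfsg.Agent.H853.Fx.PslA

/-!
# S5745: the Tits group (helper250)
-/

set_option autoImplicit false
set_option linter.unusedSectionVars false
set_option linter.style.haveILetI false
set_option maxRecDepth 10000

namespace Cfsg.Agent.H250.EP

open MulAction Subgroup Cfsg.Agent.H284 Cfsg.Agent.H209.EPX Cfsg.Agent.H247.EPR Cfsg.Agent.H742.EX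

theorem iso_self : Cfsg.Lie.IsoTits Cfsg.Lie.TitsGroup := ⟨MulEquiv.refl _⟩

theorem tdata : Nonempty (FrobT.TData Cfsg.Lie.TitsGroup) := by
  obtain ⟨D⟩ := H87.TitsData.dat_tits
  obtain ⟨P, hP1, hP2⟩ := H20.FrobTitsInst.exists_P
  have O := H438.Fpr.Tits.out iso_self
  have : Fact (Nat.Prime 13) := ⟨by norm_num⟩
  have : Fact (Nat.Prime 3) := ⟨by norm_num⟩
  have hfin := H438.Fpr.Tits.fin iso_self
  exact ⟨
    { card := O.card
      x := D.x
      t := D.t
      x13 := orderOf_eq_prime D.x13 D.x1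
      t3 := orderOf_eq_prime D.t3 D.t1
      txt := D.txt
      R := D.R
      cardR := D.card_R
      conjR := fun r hr h1 => D.R_isConj hr h1
      cent5 := O.cent
      ncomm := O.ncomm
      P := P
      cardP := hP1
      expP := hP2 }⟩

theorem card_cent_conj {S : Type} [Group S] [Finite S] {a b : S} (h : IsConj a b) :
    Nat.card (centralizer ({a} : Set S)) = Nat.card (centralizer ({b} : Set S)) := by
  have h1 := FrobT.TData.card_class (G := S) a
  have h2 := FrobT.TData.card_class (G := S) b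
  have h3 : Nat.card {z : S // IsConj a z} = Nat.card {z : S // IsConj b z} :=
    Nat.card_congr (Equiv.subtypeEquivRight fun z => ⟨fun e => h.symm.trans e, fun e => h.trans e⟩)
  have h4 := (centralizer ({a} : Set S)).card_mul_index
  have h5 := (centralizer ({b} : Set S)).card_mul_index
  rw [← h1] at h4
  rw [← h2, ← h3, ← h4] at h5
  have h6 : 0 < Nat.card {z : S // IsConj a z} := by
    have : Nonempty {z : S // IsConj a z} := ⟨⟨a, IsConj.refl a⟩⟩
    exact Nat.card_pos
  exact (Nat.eq_of_mul_eq_mul_right h6 h5).symm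

/-- **the facts for the Tits group** -/
theorem tf_tits (B : Cfsg.Agent.H940.Eng.Base) : TF Cfsg.Lie.TitsGroup := by
  have hfin := H438.Fpr.Tits.fin iso_self
  have hs := H438.Fpr.Tits.simple iso_self
  have hc : Nat.card Cfsg.Lie.TitsGroup = 17971200 := H438.Fpr.Tits.card iso_self
  obtain ⟨D⟩ := tdata
  have hco : ∀ y : Cfsg.Lie.TitsGroup, orderOf y = 3 → IsConj y D.t := by
    intro y hy
    refine D.isConj_t (b := 1) ?_ ?_
    · rw [pow_one, ← hy, pow_orderOf_eq_one]
    · rintro rfl
      rw [orderOf_one] at hy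
      omega
  exact
    { card := hc
      c5 := D.cent5
      ncomm := D.ncomm
      conj3 := fun x y hx hy => (hco x hx).trans (hco y hy).symm
      c3 := fun y hy => by rw [card_cent_conj (hco y hy), D.card_cent_t]
      n13 := fun R hR => H438.Fpr.Tits.cn13 iso_self hR
      no9 := fun y => by simpa using D.no_nine y
      no25 := fun y => by simpa using D.no_25 y
      os := fun K hK => H147.Gen.ordersD (H438.Fpr.Tits.ctx B iso_self) H438.Fpr.Tits.l_tits (1 :: H147.Gen.Tits.os) 60
        H147.Gen.Tits.chk K (one_dvd _) hK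
      odd := (H933.TitsBN.odd2_tits iso_self).1
      ords := fun T _ _ h1 h2 h3 => H438.Fpr.Tits.ords_tits B T h1 h2 h3 }

/-- from `EPS` to `S1` -/
theorem s1_of {G : Type*} [Group G] [Finite G] {H N : Subgroup G} {T : Type} [Group T] {e : N ≃* (Fin 1 → T)}
    (h : EPS H N e) : S1 H N := by
  have hs := h.simple
  let e' : N ≃* T := e.trans (MulEquiv.funUnique (Fin 1) T)
  refine ⟨h.ep, h.le, h.nrm, ?_, fun x hx h2 => EPS.odd_relIndex_N h hx h2,
    fun x hx h2 => odd_relIndex h.ep (EPS.not_solvable h) hx h2⟩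
  have hn : Nontrivial N := e'.toEquiv.nontrivial
  exact IsSimpleGroup.isSimpleGroup_of_surjective e'.symm.toMonoidHom e'.symm.surjective

/-- the name of `T` -/
theorem name_7800 : ((OrdDiv.cands H438.Fpr.Tits.l_tits H438.Fpr.Tits.n_tits).all fun g =>
    OrdDiv.ordN g != 7800 || decide (g = OrdDiv.Grp.psl 2 25)) = true := by decide +kernel

theorem name_5616 : ((OrdDiv.cands H438.Fpr.Tits.l_tits H438.Fpr.Tits.n_tits).all fun g =>
    OrdDiv.ordN g != 5616 || decide (g = OrdDiv.Grp.psl 3 3)) = true := by decide +kernel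

theorem real_of (B : Cfsg.Agent.H940.Eng.Base) {m : ℕ} {g₀ : OrdDiv.Grp}
    (hall : ((OrdDiv.cands H438.Fpr.Tits.l_tits H438.Fpr.Tits.n_tits).all fun g =>
      OrdDiv.ordN g != m || decide (g = g₀)) = true)
    {T : Type} [Group T] [Finite T] (hs : IsSimpleGroup T) (hna : ¬ ∀ a b : T, a * b = b * a) (hd : Nat.card T ∣ 17971200)
    (hm : Nat.card T = m) : OrdDiv.Real g₀ T := by
  obtain ⟨g, hg, hr, ho⟩ := OrdDiv.exists_good B.table (B.known T hs) hna H438.Fpr.Tits.v_tits
    (show Nat.card T ∣ H438.Fpr.Tits.n_tits from hd)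
  have h1 := List.all_eq_true.1 hall g hg
  rw [← ho, hm] at h1
  simp only [bne_self_eq_false, Bool.false_or, decide_eq_true_eq] at h1
  rwa [h1] at hr

theorem cent_7800 (B : Cfsg.Agent.H940.Eng.Base) {T : Type} [Group T] [Finite T] (hs : IsSimpleGroup T)
    (hna : ¬ ∀ a b : T, a * b = b * a) (hd : Nat.card T ∣ 17971200) (hm : Nat.card T = 7800) {t : T} (ht : orderOf t = 2) :
    Nat.card (centralizer ({t} : Set T)) = 24 := by
  obtain ⟨F, _, _, hF, ⟨e⟩⟩ := real_of B name_7800 hs hna hd hm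
  have ht' : orderOf (e t) = 2 := (e.orderOf_eq t).trans ht
  have h1 := H853.Fx.card_cent_inv (F := F) (by rw [hF]; decide) ht'
  rw [hF] at h1
  have h2 : Nat.card (centralizer ({t} : Set T)) = Nat.card (centralizer ({e t} : Set _)) := by
    refine Nat.card_congr (e.toEquiv.subtypeEquiv fun g => ?_)
    show g ∈ centralizer ({t} : Set T) ↔ e g ∈ centralizer ({e t} : Set _)
    rw [mem_centralizer_singleton_iff, mem_centralizer_singleton_iff, ← map_mul, ← map_mul, e.injective.eq_iff]
  rw [h2]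
  rcases h1 with h1 | h1
  · exact h1.2
  · omega

theorem coe_comm {G : Type*} [Group G] {N : Subgroup G} {a b : N} (h : a * b = b * a) : (a : G) * b = b * a := by
  rw [← Subgroup.coe_mul, h, Subgroup.coe_mul]

theorem row_7800 (B : Cfsg.Agent.H940.Eng.Base) {H N : Subgroup Cfsg.Lie.TitsGroup} {T : Type} [Group T]
    {e : N ≃* (Fin 1 → T)} (h : EPS H N e) (hN : Nat.card N = 7800) : False := by
  have hfin := H438.Fpr.Tits.fin iso_self
  have F := tf_tits B
  let e' : N ≃* T := e.trans (MulEquiv.funUnique (Fin 1) T)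
  have hT : Nat.card T = 7800 := by rw [← hN]; exact (Nat.card_congr e'.toEquiv).symm
  have hft : Finite T := Nat.finite_of_card_ne_zero (by rw [hT]; norm_num)
  have hna : ¬ ∀ a b : T, a * b = b * a := by
    intro hab
    obtain ⟨a, b, h1⟩ := h.nab
    exact h1 (hab a b)
  have hcent := fun {t : T} (ht : orderOf t = 2) => cent_7800 B h.simple hna (by rw [hT]; norm_num) hT ht
  refine F.no_7800 (s1_of h) hN ?_ ?_
  · intro x hx
    apply EPS.noTwo h _ hx
    intro t ht h2
    exfalso
    have hf := Fact.mk Nat.prime_two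
    obtain ⟨j, hj⟩ := IsPGroup.iff_card.1 h2
    rw [hcent ht] at hj
    have h3 : 3 ∣ 2 ^ j := by rw [← hj]; norm_num
    have h4 := Nat.Prime.dvd_of_dvd_pow Nat.prime_three h3
    norm_num at h4
  · have hf2 := Fact.mk Nat.prime_two
    have hf3 := Fact.mk Nat.prime_three
    obtain ⟨t, ht⟩ := exists_prime_orderOf_dvd_card' (G := T) 2 (by rw [hT]; norm_num)
    obtain ⟨y, hy⟩ := exists_prime_orderOf_dvd_card' (G := centralizer ({t} : Set T)) 3 (by rw [hcent ht]; norm_num)
    have hyt : (y : T) * t = t * y := mem_centralizer_singleton_iff.1 y.2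
    refine ⟨e'.symm y, (e'.symm y).2, e'.symm t, (e'.symm t).2, ?_, ?_, ?_⟩
    · rw [Subgroup.orderOf_coe, MulEquiv.orderOf_eq, Subgroup.orderOf_coe, hy]
    · rw [Subgroup.orderOf_coe, MulEquiv.orderOf_eq, ht]
    · have h5 : e'.symm (y : T) * e'.symm t = e'.symm t * e'.symm (y : T) := by rw [← map_mul, hyt, map_mul]
      exact coe_comm h5

/-- **The Tits group** modulo the row `L₃(3)`. -/
theorem noEP_of (B : Cfsg.Agent.H940.Eng.Base)
    (hL : ∀ (H N : Subgroup Cfsg.Lie.TitsGroup) (T : Type) [Group T] (e : N ≃* (Fin 1 → T)), EPS H N e →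
      Nat.card N = 5616 → False) : H542.EPX.NoEP Cfsg.Lie.TitsGroup := by
  intro H h
  have hfin := H438.Fpr.Tits.fin iso_self
  have hs : IsSimpleGroup Cfsg.Lie.TitsGroup := H438.Fpr.Tits.simple iso_self
  have F := tf_tits B
  rcases trichotomy h with ⟨X, hX⟩ | ⟨N, N', T, _, k, e, he⟩ | ⟨N, T, _, k, e, he⟩
  · exact F.no_aff hX
  · exact F.no_two e he
  · obtain rfl := F.k_one e he
    have h1 := s1_of he
    obtain ⟨_, h2, h3⟩ := F.card_T e he.pos he.simple he.nab
    have h4 : Nat.card T = Nat.card N := (Nat.card_congr (e.trans (MulEquiv.funUnique (Fin 1) T)).toEquiv).symm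
    rw [h4] at h3
    simp only [List.mem_cons, List.not_mem_nil, or_false] at h3
    rcases h3 with h3 | h3 | h3 | h3 | h3 | h3
    · exact F.no_60 h1 h3
    · exact F.no_360 h1 h3
    · exact hL H N T e he h3
    · exact row_7800 B he h3
    · exact F.no_62400 h1 h3
    · apply h.max.1
      have h5 : N = ⊤ := Subgroup.eq_top_of_card_eq N (by rw [h3, F.card])
      exact top_le_iff.1 (h5 ▸ he.le)

end Cfsg.Agent.H250.EP
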